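import Groth.Agent.CohDerLib.HComp.Tower
import Groth.Agent.S0478
import Groth.Prelude.Def_DCoh2

/-!
# Cohomology and cohomology sheaves over acyclic objects; derived limits of such
-/

set_option backward.isDefEq.respectTransparency.types false
set_option backward.isDefEq.respectTransparency false

universe u

open CategoryTheory CategoryTheory.Limits DerivedCategory Pretriangulated Opposite

namespace Groth.Agent.CohDerLib.HComp

lemma subsingleton_ext_of_iso {A : Type*} [Category A] [Abelian A] [HasExt.{u} A] {X W W' : A}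
    (e : W ≅ W') (k : ℕ) (h : Subsingleton (Abelian.Ext X W k)) :
    Subsingleton (Abelian.Ext X W' k) := ⟨fun x y => by
  have := congrArg (fun z => z.comp (Abelian.Ext.mk₀ e.hom) (add_zero k))
    (Subsingleton.elim (x.comp (Abelian.Ext.mk₀ e.inv) (add_zero k))
      (y.comp (Abelian.Ext.mk₀ e.inv) (add_zero k)))
  simpa using this⟩

lemma subsingleton_ext_of_isZero {A : Type*} [Category A] [Abelian A] [HasExt.{u} A] {X W : A}
    (hW : IsZero W) (k : ℕ) : Subsingleton (Abelian.Ext X W k) := ⟨fun x y => by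
  have h : ∀ z : Abelian.Ext X W k, z = 0 := fun z => by
    rw [← z.comp_mk₀_id, hW.eq_of_src (𝟙 W) 0, Abelian.Ext.mk₀_zero, Abelian.Ext.comp_zero]
  rw [h x, h y]⟩

/-- homology of single functors off the degree -/
lemma isZero_homology_single {A : Type*} [Category A] [Abelian A] [HasDerivedCategory A] (W : A)
    (j i : ℤ) (h : i ≠ j) : IsZero ((homologyFunctor A i).obj ((singleFunctor A j).obj W)) := by
  rcases lt_or_gt_of_ne h with h | h
  · exact isZero_of_isGE _ j i h
  · exact isZero_of_isLE _ j i h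

variable {C : Type u} [SmallCategory C] {J : GrothendieckTopology C}
  [HasDerivedCategory.{u} (Sheaf J AddCommGrpCat.{u})]

/-- `U` is acyclic for the cohomology sheaves of `K` -/
def AcyclicAt (K : DerivedCategory (Sheaf J AddCommGrpCat.{u})) (U : C) : Prop :=
  ∀ (p : ℕ) (q : ℤ), Subsingleton (CohSite.HU (CohCx.HD K q) (p + 1) U)

/-- bounded below case -/
theorem hsec_bijective_of_isGE (K : DerivedCategory (Sheaf J AddCommGrpCat.{u})) (a : ℤ) [K.IsGE a]
    (U : C) (h : AcyclicAt K U) (q : ℤ) : Function.Bijective (hsec K q U) := by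
  refine hsec_bijective_of_hmap ?_
  have : TStructure.t.IsGE (K⟦q⟧) (a - q) := TStructure.t.isGE_shift K a q (a - q) (by omega)
  refine hmap_bijective_of_ext _ _ (a - q) fun j k hk => ?_
  obtain ⟨p, rfl⟩ : ∃ p, k = p + 1 := ⟨k - 1, by omega⟩
  exact subsingleton_ext_of_iso
    (((homologyFunctor (Sheaf J AddCommGrpCat.{u}) 0).shiftIso q j (q + j) rfl).app K).symm _
    (h p (q + j))

omit [HasDerivedCategory.{u} (Sheaf J AddCommGrpCat.{u})] in
/-- objects of a class of objects covering everything -/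
theorem exists_family {B : Set C}
    (hB : ∀ U : C, ∃ (ι : Type u) (Yf : ι → C) (f : ∀ i, Yf i ⟶ U), Sieve.ofArrows Yf f ∈ J U ∧ ∀ i, Yf i ∈ B)
    {U : C} (T : Sieve U) (hT : T ∈ J U) :
    ∃ (ι : Type u) (Yf : ι → C) (f : ∀ i, Yf i ⟶ U),
      Sieve.ofArrows Yf f ∈ J U ∧ (∀ i, T (f i)) ∧ ∀ i, Yf i ∈ B := by
  choose ι Yf f hf hY using hB
  let I := Σ a : (Σ Z : C, { g : Z ⟶ U // T g }), ι a.1
  refine ⟨I, fun i => Yf i.1.1 i.2, fun i => f i.1.1 i.2 ≫ i.1.2.1, ?_,
    fun i => T.downward_closed i.1.2.2 _, fun i => hY i.1.1 i.2⟩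
  refine J.transitive hT _ fun Z g hg => J.superset_covering ?_ (hf Z)
  rw [Sieve.ofArrows, Sieve.generate_le_iff]
  intro Z₀ g₀ hg₀
  obtain ⟨l⟩ := hg₀
  exact (Sieve.mem_ofArrows_iff (fun i : I => Yf i.1.1 i.2) (fun i => f i.1.1 i.2 ≫ i.1.2.1)
    (f Z l ≫ g)).2 ⟨⟨⟨Z, g, hg⟩, l⟩, 𝟙 _, (Category.id_comp _).symm⟩

section Milnor

variable {K : ℕ → DerivedCategory (Sheaf J AddCommGrpCat.{u})} {t : ∀ n, K (n + 1) ⟶ K n}
  [HasProduct K] {L : DerivedCategory (Sheaf J AddCommGrpCat.{u})} {a : ∀ n, L ⟶ K n}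

omit [HasProduct K] in
lemma limOne_of_sections (U : C) (q : ℤ) (hb : ∀ n, Function.Bijective (hsec (K n) q U))
    (h : CohCx.LimOneIsZero (fun n => (CohCx.HD (K n) q).obj.obj (op U))
      (fun n => (((homologyFunctor (Sheaf J AddCommGrpCat.{u}) q).map (t n)).hom.app (op U)).hom)) :
    CohCx.LimOneIsZero (fun n => CohCx.HDU (K n) q U)
      (fun n => Preadditive.rightComp _ ((shiftFunctor _ q).map (t n))) := by
  intro c
  obtain ⟨b, hb'⟩ := h (fun n => hsec (K n) q U (c n))
  choose w hw using fun n => (hb n).2 (b n)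
  refine ⟨w, funext fun n => (hb n).1 ?_⟩
  rw [map_sub]
  refine Eq.trans ?_ (congrFun hb' n)
  rw [hw]
  exact congrArg (b n - ·) ((hsec_map (t n) q (w (n + 1))).trans
    (congrArg (((homologyFunctor _ q).map (t n)).hom.app (op U)) (hw (n + 1))))

/-- a class killed by the projections -/
lemma hDU_eq_zero (hL : CohCx.IsRlimVia K t L a) (U : C) (q : ℤ)
    (hb : ∀ n, Function.Bijective (hsec (K n) q U))
    (hl : CohCx.LimOneIsZero (fun n => CohCx.HDU (K n) (q - 1) U)
      (fun n => Preadditive.rightComp _ ((shiftFunctor _ (q - 1)).map (t n))))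
    (y : CohCx.HDU L q U)
    (hy : ∀ n, ((homologyFunctor (Sheaf J AddCommGrpCat.{u}) q).map (a n)).hom.app (op U) (hsec L q U y) = 0) :
    y = 0 :=
  SiteCoh.RlimSeq.eq_zero K t L a hL _ q hl y fun n =>
    (hb n).1 ((hsec_map (a n) q y).trans ((hy n).trans (map_zero _).symm))

/-- compatible sections come from the limit -/
lemma exists_hDU (hL : CohCx.IsRlimVia K t L a) (U : C) (q : ℤ)
    (hb : ∀ n, Function.Bijective (hsec (K n) q U))
    (x : ∀ n, (CohCx.HD (K n) q).obj.obj (op U))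
    (hx : ∀ n, ((homologyFunctor (Sheaf J AddCommGrpCat.{u}) q).map (t n)).hom.app (op U) (x (n + 1)) = x n) :
    ∃ y : CohCx.HDU L q U, ∀ n,
      ((homologyFunctor (Sheaf J AddCommGrpCat.{u}) q).map (a n)).hom.app (op U) (hsec L q U y) = x n := by
  choose w hw using fun n => (hb n).2 (x n)
  obtain ⟨y, hy⟩ := SiteCoh.RlimSeq.exists_lift K t L a hL _ q w fun n => (hb n).1 (by
    rw [hsec_map, hw, hw, hx])
  exact ⟨y, fun n => by rw [← hsec_map, hy, hw]⟩

end Milnor

lemma isRlimVia_of_isRlim {K : ℕ → DerivedCategory (Sheaf J AddCommGrpCat.{u})}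
    {t : ∀ n, K (n + 1) ⟶ K n} [HasProduct K] {L : DerivedCategory (Sheaf J AddCommGrpCat.{u})}
    (hL : DCoh.IsRlim K t L) : ∃ a, CohCx.IsRlimVia K t L a := by
  obtain ⟨l, c, hc⟩ := hL
  have hl : Pi.lift (fun n => l ≫ Pi.π K n) = l := Pi.hom_ext _ _ fun n => Pi.lift_π _ _
  exact ⟨fun n => l ≫ Pi.π K n, c, by rw [hl]; exact hc⟩

/-- Cohomology over acyclic objects is given by sections of the cohomology sheaves. -/
theorem hsec_bijective (K : DerivedCategory (Sheaf J AddCommGrpCat.{u})) (B : Set C)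
    (hB : ∀ U : C, ∃ (ι : Type u) (Yf : ι → C) (f : ∀ i, Yf i ⟶ U), Sieve.ofArrows Yf f ∈ J U ∧ ∀ i, Yf i ∈ B)
    (h : ∀ U ∈ B, AcyclicAt K U) {U : C} (hU : U ∈ B) (q : ℤ) :
    Function.Bijective (hsec K q U) := by
  have := Groth.Agent.S0478.result (A := Sheaf J AddCommGrpCat.{u})
  have : HasLimitsOfShape (Discrete ℕ) (DerivedCategory (Sheaf J AddCommGrpCat.{u})) :=
    hasLimitsOfShape_of_equivalence (Discrete.equivalence Equiv.ulift.{u})
  have hL : CohCx.IsRlimVia (CohCx.truncTower K) (CohCx.truncTowerMap K) K (CohCx.toTruncTower K) := by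
    refine isRlimVia_truncTower K fun V m T hT => ?_
    obtain ⟨ι, Yf, f, hf, hfT, hY⟩ := exists_family hB _ (hT (-m).toNat)
    refine ⟨ι, Yf, f, hf, fun i => ⟨(-m).toNat, hfT i, fun k hk => ?_⟩⟩
    obtain ⟨p, rfl⟩ : ∃ p, k = p + 1 := ⟨k - 1, by omega⟩
    exact h (Yf i) (hY i) p _
  have hbn : ∀ (n : ℕ) (q' : ℤ), Function.Bijective (hsec (CohCx.truncTower K n) q' U) := fun n q' =>
    hsec_bijective_of_isGE _ (-(n : ℤ)) U (fun p i => by
      by_cases hi : i < -(n : ℤ)
      · exact subsingleton_ext_of_isZero (isZero_of_isGE _ (-(n : ℤ)) i hi) _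
      · have := isIso_homology_truncGEπ K (-(n : ℤ)) i (by omega)
        exact subsingleton_ext_of_iso
          (asIso ((homologyFunctor (Sheaf J AddCommGrpCat.{u}) i).map ((TStructure.t.truncGEπ (-(n : ℤ))).app K)))
          _ (h U hU p i)) q'
  have hl : CohCx.LimOneIsZero (fun n => CohCx.HDU (CohCx.truncTower K n) (q - 1) U)
      (fun n => Preadditive.rightComp _ ((shiftFunctor _ (q - 1)).map (CohCx.truncTowerMap K n))) := by
    refine limOne_of_sections U (q - 1) (fun n => hbn n _)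
      (limOneIsZero_of_eventually_surjective (-(q - 1)).toNat _ _ fun n hn => ?_)
    have := isIso_homology_truncGE_transition K (-((n + 1 : ℕ) : ℤ)) (-(n : ℤ)) (by omega) (q - 1) (by omega)
    have : IsIso (((homologyFunctor (Sheaf J AddCommGrpCat.{u}) (q - 1)).map
        (CohCx.truncTowerMap K n)).hom.app (op U)) := by
      change IsIso ((sheafToPresheaf J _ ⋙ (evaluation _ _).obj (op U)).map _)
      infer_instance
    exact ((ConcreteCategory.isIso_iff_bijective _).1 this).2
  let N := (-q).toNat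
  have hN : Function.Bijective (((homologyFunctor (Sheaf J AddCommGrpCat.{u}) q).map
      (CohCx.toTruncTower K N)).hom.app (op U)) := by
    have := isIso_homology_truncGEπ K (-(N : ℤ)) q (by omega)
    refine (ConcreteCategory.isIso_iff_bijective _).1 ?_
    change IsIso ((sheafToPresheaf J _ ⋙ (evaluation _ _).obj (op U)).map _)
    infer_instance
  refine ⟨(injective_iff_map_eq_zero _).2 fun y hy => hDU_eq_zero hL U q (fun n => hbn n q) hl y
    fun n => by rw [hy, map_zero], fun s => ?_⟩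
  obtain ⟨y, hy⟩ := exists_hDU hL U q (fun n => hbn n q)
    (fun n => ((homologyFunctor (Sheaf J AddCommGrpCat.{u}) q).map (CohCx.toTruncTower K n)).hom.app (op U) s)
    (fun n => by
      have h := toTruncTower_comp K n
      conv_rhs => rw [← h, Functor.map_comp]
      rfl)
  exact ⟨y, hN.1 (hy N)⟩

/-- The cohomology sheaves of a derived limit of acyclic objects are the limits. -/
theorem isIso_HD_rlim {K : ℕ → DerivedCategory (Sheaf J AddCommGrpCat.{u})} {t : ∀ n, K (n + 1) ⟶ K n}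
    [HasProduct K] {L : DerivedCategory (Sheaf J AddCommGrpCat.{u})} {a : ∀ n, L ⟶ K n}
    (hL : CohCx.IsRlimVia K t L a) (B : Set C)
    (hB : ∀ U : C, ∃ (ι : Type u) (Yf : ι → C) (f : ∀ i, Yf i ⟶ U), Sieve.ofArrows Yf f ∈ J U ∧ ∀ i, Yf i ∈ B)
    (h1 : ∀ U ∈ B, ∀ n, AcyclicAt (K n) U) (q : ℤ)
    (h2 : ∀ U ∈ B, CohCx.LimOneIsZero (fun n => (CohCx.HD (K n) (q - 1)).obj.obj (op U))
      (fun n => (((homologyFunctor (Sheaf J AddCommGrpCat.{u}) (q - 1)).map (t n)).hom.app (op U)).hom)) :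
    Nonempty (CohCx.HD L q ≅ limit (CohCx.opSequence (fun n => CohCx.HD (K n) q)
      (fun n => (homologyFunctor (Sheaf J AddCommGrpCat.{u}) q).map (t n)))) := by
  let H := fun n => CohCx.HD (K n) q
  let τ := fun n => (homologyFunctor (Sheaf J AddCommGrpCat.{u}) q).map (t n)
  let F := CohCx.opSequence H τ
  let c : Cone F :=
    { pt := CohCx.HD L q
      π := NatTrans.ofOpSequence
        (fun n => (homologyFunctor (Sheaf J AddCommGrpCat.{u}) q).map (a n))
        (fun n => by
          simp [F, CohCx.opSequence, τ, H, ← Functor.map_comp, rlimVia_comp hL n]) }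
  let φ := limit.lift F c
  have hb : ∀ U ∈ B, ∀ n q', Function.Bijective (hsec (K n) q' U) := fun U hU n q' =>
    hsec_bijective (K n) B hB (fun V hV => h1 V hV n) hU q'
  have hl : ∀ U ∈ B, CohCx.LimOneIsZero (fun n => CohCx.HDU (K n) (q - 1) U)
      (fun n => Preadditive.rightComp _ ((shiftFunctor _ (q - 1)).map (t n))) := fun U hU =>
    limOne_of_sections U (q - 1) (fun n => hb U hU n _) (h2 U hU)
  have hπ : ∀ (n : ℕ) (U : C) (s : (CohCx.HD L q).obj.obj (op U)),
      (limit.π F (op n)).hom.app (op U) (φ.hom.app (op U) s) =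
        ((homologyFunctor (Sheaf J AddCommGrpCat.{u}) q).map (a n)).hom.app (op U) s := fun n U s =>
    congrArg (fun ψ : CohCx.HD L q ⟶ CohCx.HD (K n) q => ψ.hom.app (op U) s) (limit.lift_π c (op n))
  have hmono : Mono φ := by
    refine (sheafToPresheaf J AddCommGrpCat.{u}).mono_of_mono_map ?_
    have : ∀ U, Mono (φ.hom.app U) := by
      rintro ⟨U⟩
      rw [AddCommGrpCat.mono_iff_injective, injective_iff_map_eq_zero]
      intro s hs
      obtain ⟨T, hT, hy⟩ := lift_mem L q s
      obtain ⟨ι, Yf, f, hf, hfT, hY⟩ := exists_family hB T hT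
      refine section_ext _ _ hf s 0 fun Z g hg => ?_
      obtain ⟨i, k, rfl⟩ := (Sieve.mem_ofArrows_iff Yf f g).1 hg
      obtain ⟨y, hy⟩ := hy (f i) (hfT i)
      have : y = 0 := hDU_eq_zero hL (Yf i) q (fun n => hb _ (hY i) n q) (hl _ (hY i)) y fun n => by
        rw [hy, NatTrans.naturality_apply, ← hπ n U s]
        exact (congrArg _ ((congrArg _ hs).trans (map_zero _))).trans (map_zero _)
      rw [op_comp, Functor.map_comp, ConcreteCategory.comp_apply, ← hy, this, map_zero, map_zero,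
        map_zero]
    exact @NatTrans.mono_of_mono_app _ _ _ _ _ _ ((sheafToPresheaf J _).map _) this
  have hepi : Epi φ := by
    refine (Sheaf.isLocallySurjective_iff_epi' AddCommGrpCat.{u} φ).1 ⟨fun {U} z => ?_⟩
    obtain ⟨ι, Yf, f, hf, hY⟩ := hB U
    refine J.superset_covering ?_ hf
    rw [Sieve.ofArrows, Sieve.generate_le_iff]
    intro Z₀ g₀ hg₀
    obtain ⟨i⟩ := hg₀
    let z' := (limit F).obj.map (f i).op z
    obtain ⟨y, hy⟩ := exists_hDU hL (Yf i) q (fun n => hb _ (hY i) n q)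
      (fun n => (limit.π F (op n)).hom.app (op (Yf i)) z') (fun n => by
        have h' : limit.π F (op (n + 1)) ≫ τ n = limit.π F (op n) := by
          rw [← limit.w F (homOfLE (Nat.le_succ n)).op]
          simp [F, CohCx.opSequence]
        exact congrArg (fun ψ : limit F ⟶ H n => ψ.hom.app (op (Yf i)) z') h')
    refine ⟨hsec L q (Yf i) y, ?_⟩
    refine Concrete.isLimit_ext _
      (isLimitOfPreserves (sheafToPresheaf J AddCommGrpCat.{u} ⋙ (evaluation _ _).obj (op (Yf i)))
        (limit.isLimit F)) _ _ ?_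
    rintro ⟨n⟩
    exact (hπ n (Yf i) _).trans (hy n)
  have := isIso_of_mono_of_epi φ
  exact ⟨asIso φ⟩

end Groth.Agent.CohDerLib.HComp
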