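import Groth.Agent.CohDerLib.HComp.Bounded
import Groth.Agent.SiteCoh.Free
import Groth.Agent.SiteCoh.RlimSeq
import Mathlib.CategoryTheory.Sites.EpiMono

/-!
# Cohomology classes and sections of cohomology sheaves; derived limits
-/

set_option backward.isDefEq.respectTransparency.types false
set_option backward.isDefEq.respectTransparency false

universe w u

open CategoryTheory CategoryTheory.Limits DerivedCategory Pretriangulated Opposite

namespace Groth.Agent.CohDerLib.HComp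

section Sheaf

variable {C : Type u} [SmallCategory C] {J : GrothendieckTopology C}

/-- sections are determined locally -/
lemma section_ext (F : (Sheaf J AddCommGrpCat.{u})) {U : C} (T : Sieve U) (hT : T ∈ J U) (s s' : F.obj.obj (op U))
    (h : ∀ ⦃Y : C⦄ (g : Y ⟶ U), T g → F.obj.map g.op s = F.obj.map g.op s') : s = s' :=
  ((isSheaf_iff_isSheaf_of_type _ _).1 ((sheafCompose J (forget AddCommGrpCat.{u})).obj F).property
    T hT).isSeparatedFor.ext h

/-- local factorization of the unit section through an epimorphism -/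
lemma exists_sieve_lift {X' : (Sheaf J AddCommGrpCat.{u})} {V : C} (π : X' ⟶ CohCx.freeSheaf J V) [Epi π] :
    ∃ T ∈ J V, ∀ ⦃Y : C⦄ (g : Y ⟶ V), T g →
      ∃ a : CohCx.freeSheaf J Y ⟶ X', a ≫ π = CohCx.freeSheafMap J g := by
  have hls : Presheaf.IsLocallySurjective J π.hom :=
    (Sheaf.isLocallySurjective_iff_epi' AddCommGrpCat.{u} π).2 inferInstance
  let ε := SiteCoh.Free.sectionEquiv J V _ (𝟙 (CohCx.freeSheaf J V))
  refine ⟨_, hls.imageSieve_mem ε, fun Y g ⟨w, hw⟩ => ?_⟩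
  refine ⟨(SiteCoh.Free.sectionEquiv J Y X').symm w, (SiteCoh.Free.sectionEquiv J Y _).injective ?_⟩
  rw [SiteCoh.Free.sectionEquiv_comp, AddEquiv.apply_symm_apply]
  refine hw.trans ?_
  exact ((SiteCoh.Free.sectionEquiv_map J g (𝟙 _)).symm.trans (by rw [Category.comp_id]))

variable [HasDerivedCategory.{w} (Sheaf J AddCommGrpCat.{u})]

/-- `H⁰(K[q]) = H^q(K)` -/
noncomputable def σ (K : DerivedCategory (Sheaf J AddCommGrpCat.{u})) (q : ℤ) :
    (homologyFunctor (Sheaf J AddCommGrpCat.{u}) 0).obj (K⟦q⟧) ≅ CohCx.HD K q :=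
  ((homologyFunctor (Sheaf J AddCommGrpCat.{u}) 0).isoShift q).app K

lemma σ_naturality {K L : DerivedCategory (Sheaf J AddCommGrpCat.{u})} (f : K ⟶ L) (q : ℤ) :
    (homologyFunctor (Sheaf J AddCommGrpCat.{u}) 0).map (f⟦q⟧') ≫ (σ L q).hom =
      (σ K q).hom ≫ (homologyFunctor (Sheaf J AddCommGrpCat.{u}) q).map f :=
  (homologyFunctor (Sheaf J AddCommGrpCat.{u}) 0).isoShift_hom_naturality q f

/-- the section of the cohomology sheaf attached to a class -/
noncomputable def hsec (K : DerivedCategory (Sheaf J AddCommGrpCat.{u})) (q : ℤ) (U : C) :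
    CohCx.HDU K q U →+ (CohCx.HD K q).obj.obj (op U) :=
  (SiteCoh.Free.sectionEquiv J U _).toAddMonoidHom.comp
    ((Preadditive.rightComp _ (σ K q).hom).comp (hmapHom (CohCx.freeSheaf J U) (K⟦q⟧)))

lemma hsec_apply (K : DerivedCategory (Sheaf J AddCommGrpCat.{u})) (q : ℤ) (U : C) (y : CohCx.HDU K q U) :
    hsec K q U y = SiteCoh.Free.sectionEquiv J U _ (hmap y ≫ (σ K q).hom) := rfl

lemma hsec_bijective_of_hmap {K : DerivedCategory (Sheaf J AddCommGrpCat.{u})} {q : ℤ} {U : C}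
    (h : Function.Bijective (hmap (X := CohCx.freeSheaf J U) (M := K⟦q⟧))) :
    Function.Bijective (hsec K q U) :=
  (SiteCoh.Free.sectionEquiv J U _).bijective.comp ((σ K q).homToEquiv.bijective.comp h)

lemma hsec_res (K : DerivedCategory (Sheaf J AddCommGrpCat.{u})) (q : ℤ) {U V : C} (g : V ⟶ U) (y : CohCx.HDU K q U) :
    hsec K q V (CohCx.HDUres K q g y) = (CohCx.HD K q).obj.map g.op (hsec K q U y) := by
  rw [hsec_apply, hsec_apply, ← SiteCoh.Free.sectionEquiv_map J g, ← Category.assoc]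
  exact congrArg (fun φ => SiteCoh.Free.sectionEquiv J V _ (φ ≫ (σ K q).hom))
    (hmap_precomp (CohCx.freeSheafMap J g) y)

lemma hsec_map {K L : DerivedCategory (Sheaf J AddCommGrpCat.{u})} (f : K ⟶ L) (q : ℤ) {U : C} (y : CohCx.HDU K q U) :
    hsec L q U (y ≫ f⟦q⟧') = ((homologyFunctor (Sheaf J AddCommGrpCat.{u}) q).map f).hom.app (op U) (hsec K q U y) := by
  rw [hsec_apply, hsec_apply, ← SiteCoh.Free.sectionEquiv_comp, hmap_comp, Category.assoc,
    Category.assoc, σ_naturality]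

/-- every section of a cohomology sheaf comes locally from a class -/
theorem lift_mem (K : DerivedCategory (Sheaf J AddCommGrpCat.{u})) (q : ℤ) {V : C} (s : (CohCx.HD K q).obj.obj (op V)) :
    ∃ T ∈ J V, ∀ ⦃Y : C⦄ (g : Y ⟶ V), T g →
      ∃ y : CohCx.HDU K q Y, hsec K q Y y = (CohCx.HD K q).obj.map g.op s := by
  obtain ⟨X', π, hπ, y, hy⟩ :=
    exists_refine_lift ((SiteCoh.Free.sectionEquiv J V _).symm s ≫ (σ K q).inv)
  obtain ⟨T, hT, hlift⟩ := exists_sieve_lift π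
  refine ⟨T, hT, fun Y g hg => ?_⟩
  obtain ⟨a, ha⟩ := hlift g hg
  refine ⟨(singleFunctor (Sheaf J AddCommGrpCat.{u}) 0).map a ≫ y, ?_⟩
  rw [hsec_apply, hmap_precomp, hy, Category.assoc, Category.assoc, Category.assoc,
    Iso.inv_hom_id, Category.comp_id, ← Category.assoc, ha, SiteCoh.Free.sectionEquiv_map,
    AddEquiv.apply_symm_apply]

/-- a class with vanishing section is locally zero -/
theorem zero_mem (K : DerivedCategory (Sheaf J AddCommGrpCat.{u})) (q : ℤ) {V : C} (y : CohCx.HDU K q V)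
    (hy : hsec K q V y = 0) :
    ∃ T ∈ J V, ∀ ⦃Y : C⦄ (g : Y ⟶ V), T g → CohCx.HDUres K q g y = 0 := by
  have h0 : hmap y = 0 := by
    rw [hsec_apply, AddEquiv.map_eq_zero_iff] at hy
    exact (cancel_mono (σ K q).hom).1 (hy.trans zero_comp.symm)
  obtain ⟨X', π, hπ, h⟩ := exists_refine_zero y h0
  obtain ⟨T, hT, hlift⟩ := exists_sieve_lift π
  refine ⟨T, hT, fun Y g hg => ?_⟩
  obtain ⟨a, ha⟩ := hlift g hg
  change (singleFunctor (Sheaf J AddCommGrpCat.{u}) 0).map (CohCx.freeSheafMap J g) ≫ y = 0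
  rw [← ha, Functor.map_comp, Category.assoc, h, comp_zero]

end Sheaf

section Rlim

variable {T : Type*} [Category T] [Preadditive T] [HasZeroObject T] [HasShift T ℤ]
  [∀ n : ℤ, (shiftFunctor T n).Additive] [Pretriangulated T]
  {K : ℕ → T} {t : ∀ n, K (n + 1) ⟶ K n} [HasProduct K] {L : T} {a : ∀ n, L ⟶ K n}

lemma rlimVia_comp (hL : CohCx.IsRlimVia K t L a) (n : ℕ) : a (n + 1) ≫ t n = a n := by
  obtain ⟨c, hc⟩ := hL
  have h := congrArg (fun f : L ⟶ ∏ᶜ K => f ≫ Pi.π K n) (comp_distTriang_mor_zero₁₂ _ hc)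
  simp only [Triangle.mk_mor₁, Triangle.mk_mor₂, Category.assoc, zero_comp, Pi.lift_π,
    Preadditive.comp_sub, Pi.lift_π_assoc] at h
  exact (sub_eq_zero.1 h).symm

omit [HasZeroObject T] [∀ n : ℤ, (shiftFunctor T n).Additive] [Pretriangulated T] [HasProduct K] in
lemma comp_transition (ha : ∀ n, a (n + 1) ≫ t n = a n) (n : ℕ) :
    ∀ k, a (n + k) ≫ CohCx.transition K t n k = a n
  | 0 => Category.comp_id _
  | k + 1 => by
    change a (n + k + 1) ≫ t (n + k) ≫ CohCx.transition K t n k = a n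
    rw [← Category.assoc, ha, comp_transition ha n k]

lemma shift_comp_injective (Tr : Triangle T) (hT : Tr ∈ distTriang _) (Z : T) (m : ℤ)
    (h : Subsingleton (Z ⟶ Tr.obj₁⟦m⟧)) :
    Function.Injective (fun y : Z ⟶ Tr.obj₂⟦m⟧ => y ≫ Tr.mor₂⟦m⟧') := by
  intro y y' hy
  obtain ⟨x, rfl⟩ := (SiteCoh.RlimSeq.e Z m _).surjective y
  obtain ⟨x', rfl⟩ := (SiteCoh.RlimSeq.e Z m _).surjective y'
  refine congrArg _ ?_
  replace hy : x ≫ Tr.mor₂ = x' ≫ Tr.mor₂ := (SiteCoh.RlimSeq.e Z m _).injective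
    ((SiteCoh.RlimSeq.e_comp Z m x _).trans (hy.trans (SiteCoh.RlimSeq.e_comp Z m x' _).symm))
  obtain ⟨g, hg⟩ := Triangle.coyoneda_exact₂ Tr hT (x - x')
    (by rw [Preadditive.sub_comp, sub_eq_zero]; exact hy)
  have hg0 : g = 0 := (SiteCoh.RlimSeq.e Z m _).injective (h.elim _ _)
  rw [← sub_eq_zero, hg, hg0, zero_comp]

lemma shift_comp_surjective (Tr : Triangle T) (hT : Tr ∈ distTriang _) (Z : T) (m m' : ℤ)
    (hm : 1 + m = m') (h : Subsingleton (Z ⟶ Tr.obj₁⟦m'⟧)) :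
    Function.Surjective (fun y : Z ⟶ Tr.obj₂⟦m⟧ => y ≫ Tr.mor₂⟦m⟧') := fun z => by
  obtain ⟨x, rfl⟩ := (SiteCoh.RlimSeq.e Z m _).surjective z
  have hx : x ≫ Tr.mor₃ = 0 := (SiteCoh.RlimSeq.e Z m _).injective
    (((shiftFunctorAdd' T 1 m m' hm).app Tr.obj₁).symm.homToEquiv.injective (h.elim _ _))
  obtain ⟨y, hy⟩ := Triangle.coyoneda_exact₃ Tr hT x hx
  exact ⟨SiteCoh.RlimSeq.e Z m _ y, by rw [hy, SiteCoh.RlimSeq.e_comp]⟩

end Rlim

/-- eventual surjectivity gives vanishing of `R¹lim` -/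
theorem limOneIsZero_of_eventually_surjective :
    ∀ (N : ℕ) (A : ℕ → Type u) [∀ n, AddCommGroup (A n)] (t : ∀ n, A (n + 1) →+ A n),
      (∀ n, N ≤ n → Function.Surjective (t n)) → CohCx.LimOneIsZero A t
  | 0, A, _, t, h => fun c => by
    let b : ∀ n, A n := fun n => Nat.rec (motive := A) 0
      (fun k bk => (h k (Nat.zero_le k) (bk - c k)).choose) n
    refine ⟨b, funext fun n => ?_⟩
    change b n - t n (h n (Nat.zero_le n) (b n - c n)).choose = c n
    rw [(h n (Nat.zero_le n) (b n - c n)).choose_spec, sub_sub_cancel]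
  | N + 1, A, _, t, h => fun c => by
    obtain ⟨b, hb⟩ := limOneIsZero_of_eventually_surjective N (fun n => A (n + 1))
      (fun n => t (n + 1)) (fun n hn => h (n + 1) (Nat.succ_le_succ hn)) (fun n => c (n + 1))
    refine ⟨fun n => Nat.casesOn (motive := A) n (c 0 + t 0 (b 0)) b, funext fun n => ?_⟩
    cases n with
    | zero => exact add_sub_cancel_right _ _
    | succ n => exact congrFun hb n

section Key

variable {C : Type u} [SmallCategory C] {J : GrothendieckTopology C}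
  [HasDerivedCategory.{u} (Sheaf J AddCommGrpCat.{u})]
  {K : ℕ → DerivedCategory (Sheaf J AddCommGrpCat.{u})} {t : ∀ n, K (n + 1) ⟶ K n} [HasProduct K]
  {L : DerivedCategory (Sheaf J AddCommGrpCat.{u})} {a : ∀ n, L ⟶ K n}

/-- a section of `H^m(L)` killed at one stage vanishes on good objects of a covering sieve -/
theorem section_eq_zero (hL : CohCx.IsRlimVia K t L a) {V : C} (m : ℤ) (nV : ℕ)
    (s : (CohCx.HD L m).obj.obj (op V))
    (hs : ((homologyFunctor _ m).map (a nV)).hom.app (op V) s = 0) :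
    ∃ T ∈ J V, ∀ ⦃Y : C⦄ (g : Y ⟶ V), T g →
      CohCx.LimOneIsZero (fun n => CohCx.HDU (K n) (m - 1) Y)
          (fun n => Preadditive.rightComp _ ((shiftFunctor _ (m - 1)).map (t n))) →
      (∀ k : ℕ, Function.Injective
          (Preadditive.rightComp _ ((shiftFunctor _ m).map (CohCx.transition K t nV k)) :
            CohCx.HDU (K (nV + k)) m Y → CohCx.HDU (K nV) m Y)) →
      (CohCx.HD L m).obj.map g.op s = 0 := by
  obtain ⟨T₁, hT₁, hy⟩ := lift_mem L m s
  choose y hy using hy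
  have h2 : ∀ ⦃Y : C⦄ (g : Y ⟶ V) (hg : T₁ g), ∃ R ∈ J Y, ∀ ⦃Z : C⦄ (h : Z ⟶ Y), R h →
      CohCx.HDUres (K nV) m h (y g hg ≫ (a nV)⟦m⟧') = 0 := fun Y g hg => zero_mem _ _ _ (by
    rw [hsec_map, hy g hg, NatTrans.naturality_apply, hs, map_zero])
  choose R hR hR0 using h2
  refine ⟨Sieve.bind T₁.arrows R, J.bind_covering hT₁ hR, ?_⟩
  rintro Z _ ⟨Y, h, g, hg, hh, rfl⟩ hlim hinj
  have hc := rlimVia_comp hL
  let z : CohCx.HDU L m Z := CohCx.HDUres L m h (y g hg)
  have hz : z ≫ (a nV)⟦m⟧' = 0 := (Category.assoc _ _ _).trans (hR0 g hg h hh)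
  have key : ∀ n, nV ≤ n → z ≫ (a n)⟦m⟧' = 0 := by
    intro n hn
    obtain ⟨k, rfl⟩ := Nat.exists_eq_add_of_le hn
    refine hinj k ?_
    change (z ≫ (a (nV + k))⟦m⟧') ≫ (CohCx.transition K t nV k)⟦m⟧' =
      (0 : CohCx.HDU (K (nV + k)) m Z) ≫ (CohCx.transition K t nV k)⟦m⟧'
    rw [Category.assoc, ← Functor.map_comp, comp_transition hc, hz, zero_comp]
  have all : ∀ n, z ≫ (a n)⟦m⟧' = 0 := by
    intro n
    by_cases hn : nV ≤ n
    · exact key n hn
    · obtain ⟨k, rfl⟩ := Nat.exists_eq_add_of_le (Nat.le_of_not_le hn)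
      rw [← comp_transition hc n k, Functor.map_comp, ← Category.assoc, hz, zero_comp]
  have hz0 : z = 0 := SiteCoh.RlimSeq.eq_zero K t L a hL _ m hlim z all
  rw [op_comp, Functor.map_comp, ConcreteCategory.comp_apply, ← hy g hg, ← hsec_res]
  change hsec L m Z z = 0
  rw [hz0, map_zero]

end Key

end Groth.Agent.CohDerLib.HComp
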