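import Mathlib.Algebra.Homology.DerivedCategory.FullyFaithful
import Mathlib.Algebra.Homology.DerivedCategory.Fractions
import Mathlib.Algebra.Homology.DerivedCategory.TStructure
import Mathlib.Algebra.Homology.DerivedCategory.SingleTriangle
import Mathlib.Algebra.Homology.Refinements
import Mathlib.Algebra.Homology.SingleHomology
import Mathlib.Algebra.Homology.HomotopyCategory.HomComplexSingle

/-!
# Classes in degree zero and homology, up to refinements

For `y : X[0] ⟶ M` in a derived category, `hmap y : X ⟶ H⁰(M)`.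
-/

set_option backward.isDefEq.respectTransparency.types false
set_option backward.isDefEq.respectTransparency false

universe w v u

open CategoryTheory CategoryTheory.Limits DerivedCategory

namespace Groth.Agent.CohDerLib.HComp

variable {A : Type u} [Category.{v} A] [Abelian A] [HasDerivedCategory.{w} A]

/-- `X[0]` -/
noncomputable abbrev S (X : A) : DerivedCategory A := (singleFunctor A 0).obj X

/-- the map induced in `H⁰` -/
noncomputable def hmap {X : A} {M : DerivedCategory A} (y : S X ⟶ M) :
    X ⟶ (homologyFunctor A 0).obj M :=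
  (singleFunctorCompHomologyFunctorIso A 0).inv.app X ≫ (homologyFunctor A 0).map y

lemma hmap_comp {X : A} {M N : DerivedCategory A} (y : S X ⟶ M) (g : M ⟶ N) :
    hmap (y ≫ g) = hmap y ≫ (homologyFunctor A 0).map g := by
  simp [hmap]

lemma hmap_precomp {X' X : A} (π : X' ⟶ X) {M : DerivedCategory A} (y : S X ⟶ M) :
    hmap ((singleFunctor A 0).map π ≫ y) = π ≫ hmap y := by
  rw [hmap, hmap, Functor.map_comp]
  exact ((singleFunctorCompHomologyFunctorIso A 0).inv.naturality_assoc π _).symm

lemma hmap_add {X : A} {M : DerivedCategory A} (y y' : S X ⟶ M) :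
    hmap (y + y') = hmap y + hmap y' := by
  simp [hmap, Preadditive.comp_add]

lemma hmap_zero (X : A) (M : DerivedCategory A) : hmap (0 : S X ⟶ M) = 0 := by simp [hmap]

/-- computation on a chain map out of a single complex -/
lemma hmap_Q_map {X : A} {I : CochainComplex A ℤ} (z : X ⟶ I.X 0)
    (hz : z ≫ I.d 0 1 = 0) :
    hmap (Q.map (HomologicalComplex.mkHomFromSingle (c := ComplexShape.up ℤ) z
        (fun k (hk : 0 + 1 = k) => by subst hk; exact hz))) ≫
      (homologyFunctorFactors A 0).hom.app I =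
      I.liftCycles z 1 (by simp) hz ≫ I.homologyπ 0 := by
  have h : (singleFunctorCompHomologyFunctorIso A 0).inv.app X ≫
      (homologyFunctorFactors A 0).hom.app ((CochainComplex.singleFunctor A 0).obj X) =
      (HomologicalComplex.singleObjHomologySelfIso (ComplexShape.up ℤ) 0 X).inv := by
    simp only [singleFunctorCompHomologyFunctorIso, Iso.trans_inv, NatTrans.comp_app,
      Functor.isoWhiskerLeft_inv, Functor.isoWhiskerRight_inv, Functor.whiskerRight_app,
      Functor.whiskerLeft_app, Functor.associator_inv_app, Functor.mapIso_inv, Category.assoc,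
      SingleFunctors.evaluation_map, singleFunctorsPostcompQIso_inv_hom]
    simp
    refine (congrArg (_ ≫ ·) ?_).trans (Category.comp_id _)
    exact (congrArg (_ ≫ ·) ((congrArg (· ≫ _)
      ((homologyFunctor A 0).map_id _)).trans (Category.id_comp _))).trans
      (Iso.inv_hom_id_app _ _)
  have key : hmap (Q.map (HomologicalComplex.mkHomFromSingle (c := ComplexShape.up ℤ) z
        (fun k (hk : 0 + 1 = k) => by subst hk; exact hz))) ≫
      (homologyFunctorFactors A 0).hom.app I =
      (HomologicalComplex.singleObjHomologySelfIso (ComplexShape.up ℤ) 0 X).inv ≫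
        HomologicalComplex.homologyMap (HomologicalComplex.mkHomFromSingle z
          (fun k (hk : 0 + 1 = k) => by subst hk; exact hz)) 0 := by
    rw [← h, hmap, Category.assoc, Category.assoc]
    exact congrArg (_ ≫ ·) ((homologyFunctorFactors A 0).hom.naturality _)
  rw [key, ← HomologicalComplex.singleObjCyclesSelfIso_inv_homologyπ, Category.assoc,
    HomologicalComplex.homologyπ_naturality, ← Category.assoc]
  congr 1
  rw [← cancel_mono (I.iCycles 0)]
  simp

/-- every class in `H⁰` comes from a morphism, after a refinement -/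
theorem exists_refine_lift {X : A} {M : DerivedCategory A} (x : X ⟶ (homologyFunctor A 0).obj M) :
    ∃ (X' : A) (π : X' ⟶ X) (_ : Epi π) (y : S X' ⟶ M), hmap y = π ≫ x := by
  obtain ⟨I, ⟨e⟩⟩ : ∃ I : CochainComplex A ℤ, Nonempty (Q.obj I ≅ M) :=
    ⟨Q.objPreimage M, ⟨Q.objObjPreimageIso M⟩⟩
  obtain ⟨X', π, hπ, z, hz, hzx⟩ := I.eq_liftCycles_homologyπ_up_to_refinements
    (x ≫ (homologyFunctor A 0).map e.inv ≫ (homologyFunctorFactors A 0).hom.app I) 1 (by simp)
  refine ⟨X', π, hπ, Q.map (HomologicalComplex.mkHomFromSingle (c := ComplexShape.up ℤ) z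
      (fun k (hk : 0 + 1 = k) => by subst hk; exact hz)) ≫ e.hom, ?_⟩
  have hq := (hmap_Q_map z hz).trans hzx.symm
  have : hmap (Q.map (HomologicalComplex.mkHomFromSingle (c := ComplexShape.up ℤ) z
      (fun k (hk : 0 + 1 = k) => by subst hk; exact hz))) =
      π ≫ x ≫ (homologyFunctor A 0).map e.inv :=
    (cancel_mono ((homologyFunctorFactors A 0).hom.app I)).1 (hq.trans (by simp))
  rw [hmap_comp]
  refine (congrArg (· ≫ (homologyFunctor A 0).map e.hom) this).trans ?_
  simp [← Functor.map_comp]

/-- a morphism into `Q I` is a chain map, after a refinement -/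
theorem exists_refine_map {X : A} {I : CochainComplex A ℤ} (y : S X ⟶ Q.obj I) :
    ∃ (X' : A) (π : X' ⟶ X) (_ : Epi π) (f : (CochainComplex.singleFunctor A 0).obj X' ⟶ I),
      (singleFunctor A 0).map π ≫ y = Q.map f := by
  have : ((CochainComplex.singleFunctor A 0).obj X).IsStrictlyLE 0 := inferInstance
  obtain ⟨W, hW, s, hs, g, hfac⟩ :=
    right_fac_of_isStrictlyLE (X := (CochainComplex.singleFunctor A 0).obj X) y 0
  have hs' : QuasiIso s := (isIso_Q_map_iff_quasiIso _ _).1 hs
  have hd : W.d 0 1 = 0 := (W.isZero_of_isStrictlyLE 0 1 (by omega)).eq_of_tgt _ _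
  let π : W.X 0 ⟶ X := s.f 0 ≫ (HomologicalComplex.singleObjXSelf (ComplexShape.up ℤ) 0 X).hom
  let ι : (CochainComplex.singleFunctor A 0).obj (W.X 0) ⟶ W :=
    HomologicalComplex.mkHomFromSingle (c := ComplexShape.up ℤ) (𝟙 _)
      (fun k (hk : 0 + 1 = k) => by subst hk; simpa using hd)
  have hι : ι ≫ s = (CochainComplex.singleFunctor A 0).map π := by
    apply HomologicalComplex.from_single_hom_ext
    change (ι ≫ s).f 0 = ((HomologicalComplex.single A (ComplexShape.up ℤ) 0).map π).f 0
    simp [ι, π, HomologicalComplex.single_map_f_self]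
  have hπ : Epi π := by
    have : Epi (W.liftCycles (𝟙 (W.X 0)) 1 (by simp) (by simpa using hd)) := by
      refine (SplitEpi.mk (W.iCycles 0) ?_).epi
      rw [← cancel_mono (W.iCycles 0)]
      simp
    have h2 : π = W.liftCycles (𝟙 (W.X 0)) 1 (by simp) (by simpa using hd) ≫ W.homologyπ 0 ≫
        HomologicalComplex.homologyMap s 0 ≫
        (HomologicalComplex.singleObjHomologySelfIso (ComplexShape.up ℤ) 0 X).hom := by
      have h3 : (HomologicalComplex.singleObjCyclesSelfIso (ComplexShape.up ℤ) 0 X).hom =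
          ((HomologicalComplex.single A (ComplexShape.up ℤ) 0).obj X).iCycles 0 ≫
            (HomologicalComplex.singleObjXSelf (ComplexShape.up ℤ) 0 X).hom := rfl
      rw [HomologicalComplex.homologyπ_naturality_assoc]
      refine Eq.trans ?_ (congrArg (fun φ => _ ≫ _ ≫ φ)
        (HomologicalComplex.homologyπ_singleObjHomologySelfIso_hom _ _ _)).symm
      rw [h3]
      simp [π]
      exact (HomologicalComplex.liftCycles_i_assoc _ _ _ _ _ _).symm
    rw [h2]
    infer_instance
  refine ⟨W.X 0, π, hπ, ι ≫ g, ?_⟩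
  rw [hfac, Q.map_comp]
  have : (singleFunctor A 0).map π = Q.map ι ≫ Q.map s := by
    rw [← Q.map_comp, hι]; rfl
  rw [this, Category.assoc]
  exact congrArg (Q.map ι ≫ ·) (IsIso.hom_inv_id_assoc _ _)

/-- a morphism zero in `H⁰` vanishes, after a refinement -/
theorem exists_refine_zero {X : A} {M : DerivedCategory A} (y : S X ⟶ M) (hy : hmap y = 0) :
    ∃ (X' : A) (π : X' ⟶ X) (_ : Epi π), (singleFunctor A 0).map π ≫ y = 0 := by
  obtain ⟨I, ⟨e⟩⟩ : ∃ I : CochainComplex A ℤ, Nonempty (Q.obj I ≅ M) :=
    ⟨Q.objPreimage M, ⟨Q.objObjPreimageIso M⟩⟩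
  obtain ⟨X₁, π₁, hπ₁, f, hf⟩ := exists_refine_map (y ≫ e.inv)
  let z : X₁ ⟶ I.X 0 :=
    (HomologicalComplex.singleObjXSelf (ComplexShape.up ℤ) 0 X₁).inv ≫ f.f 0
  have hz : z ≫ I.d 0 1 = 0 := by
    simp only [z, Category.assoc, f.comm]
    rw [show ((CochainComplex.singleFunctor A 0).obj X₁).d 0 1 = 0 from
      HomologicalComplex.single_obj_d _ _ _ _ _, zero_comp, comp_zero]
  have hfz : HomologicalComplex.mkHomFromSingle (c := ComplexShape.up ℤ) z
      (fun k (hk : 0 + 1 = k) => by subst hk; exact hz) = f := by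
    apply HomologicalComplex.from_single_hom_ext
    simp [z]
  have h0 : I.liftCycles z 1 (by simp) hz ≫ I.homologyπ 0 = 0 := by
    rw [← hmap_Q_map z hz, hfz]
    have : hmap ((singleFunctor A 0).map π₁ ≫ y ≫ e.inv) = 0 := by
      rw [hmap_precomp, hmap_comp, hy, zero_comp, comp_zero]
    rw [hf] at this
    exact (congrArg (· ≫ _) this).trans zero_comp
  rw [I.liftCycles_comp_homologyπ_eq_zero_iff_up_to_refinements (-1) 0 1 (by simp) (by simp)] at h0
  obtain ⟨X₂, π₂, hπ₂, w, hw⟩ := h0
  refine ⟨X₂, π₂ ≫ π₁, inferInstance, ?_⟩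
  rw [← cancel_mono e.inv, zero_comp, Functor.map_comp, Category.assoc, Category.assoc, hf]
  let h : CochainComplex.HomComplex.Cochain ((CochainComplex.singleFunctor A 0).obj X₂) I (-1) :=
    CochainComplex.HomComplex.Cochain.fromSingleMk w (by omega)
  have hh : CochainComplex.HomComplex.δ (-1) 0 h =
      CochainComplex.HomComplex.Cochain.ofHom ((CochainComplex.singleFunctor A 0).map π₂ ≫ f) := by
    rw [CochainComplex.HomComplex.Cochain.δ_fromSingleMk _ _ 0 0 (by omega)]
    refine (CochainComplex.HomComplex.Cochain.fromSingleEquiv (by omega : (0 : ℤ) + 0 = 0)).injective ?_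
    simp [hw.symm, z, CochainComplex.HomComplex.Cochain.fromSingleEquiv]
    change _ = (HomologicalComplex.singleObjXSelf _ _ _).inv ≫
      ((HomologicalComplex.single A (ComplexShape.up ℤ) 0).map π₂).f 0 ≫ f.f 0
    simp [HomologicalComplex.single_map_f_self]
  have hom : Homotopy ((CochainComplex.singleFunctor A 0).map π₂ ≫ f) 0 :=
    (CochainComplex.HomComplex.Cochain.equivHomotopy _ _).symm ⟨h, by simp [hh]⟩
  exact ((Q.map_comp _ _).symm.trans (Q_map_eq_of_homotopy A hom)).trans (Q.map_zero _ _)

end Groth.Agent.CohDerLib.HComp
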