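import Groth.Agent.CohDerLib.HComp.Basic
import Mathlib.Algebra.Homology.DerivedCategory.Ext.Basic
import Mathlib.CategoryTheory.Triangulated.TStructure.TruncLTGE

/-!
# `hmap` on bounded below objects, and fibres of truncations
-/

set_option backward.isDefEq.respectTransparency.types false
set_option backward.isDefEq.respectTransparency false

universe w w' v u

open CategoryTheory CategoryTheory.Limits DerivedCategory Pretriangulated

namespace Groth.Agent.CohDerLib.HComp

variable {A : Type u} [Category.{v} A] [Abelian A] [HasDerivedCategory.{w} A]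

lemma comp_injective_of_subsingleton (T : Triangle (DerivedCategory A)) (hT : T ∈ distTriang _)
    (Z : DerivedCategory A) (h : Subsingleton (Z ⟶ T.obj₁)) :
    Function.Injective (fun y : Z ⟶ T.obj₂ => y ≫ T.mor₂) := by
  intro y y' hy
  obtain ⟨g, hg⟩ := Triangle.coyoneda_exact₂ T hT (y - y')
    (by rw [Preadditive.sub_comp, sub_eq_zero]; exact hy)
  rw [← sub_eq_zero, hg, h.elim g 0, zero_comp]

lemma comp_surjective_of_subsingleton (T : Triangle (DerivedCategory A)) (hT : T ∈ distTriang _)
    (Z : DerivedCategory A) (h : Subsingleton (Z ⟶ T.obj₁⟦(1 : ℤ)⟧)) :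
    Function.Surjective (fun y : Z ⟶ T.obj₂ => y ≫ T.mor₂) := fun z => by
  obtain ⟨y, hy⟩ := Triangle.coyoneda_exact₃ T hT z (h.elim _ _)
  exact ⟨y, hy.symm⟩

/-- `Hom(S X, W[-a][m]) = Ext^{m-a}(X, W)` -/
lemma subsingleton_hom_single [HasExt.{w'} A] (X W : A) (a m : ℤ) (k : ℕ) (hk : a + k = m)
    (h : Subsingleton (Abelian.Ext X W k)) :
    Subsingleton (S X ⟶ ((singleFunctor A a).obj W)⟦m⟧) := by
  let e : ((singleFunctor A a).obj W)⟦m⟧ ≅ (S W)⟦(k : ℤ)⟧ :=
    ((singleFunctors A).shiftIso m (-(k : ℤ)) a (by omega)).app W ≪≫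
      (((singleFunctors A).shiftIso (k : ℤ) (-(k : ℤ)) 0 (by omega)).app W).symm
  have : Subsingleton (S X ⟶ (S W)⟦(k : ℤ)⟧) := Abelian.Ext.homEquiv.symm.subsingleton
  exact e.homToEquiv.subsingleton

/-- `Hom(S X, W[-a][m]) = 0` for `m < a` -/
lemma subsingleton_hom_single_of_lt (X W : A) (a m : ℤ) (h : m < a) :
    Subsingleton (S X ⟶ ((singleFunctor A a).obj W)⟦m⟧) := by
  have h1 : TStructure.t.IsGE (((singleFunctor A a).obj W)⟦m⟧) (a - m) :=
    TStructure.t.isGE_shift _ a m (a - m) (by omega)
  exact ⟨fun y y' => (TStructure.t.zero_of_isLE_of_isGE y 0 (a - m) (by omega) inferInstance h1).trans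
    (TStructure.t.zero_of_isLE_of_isGE y' 0 (a - m) (by omega) inferInstance h1).symm⟩

/-- the fibre of a map inducing isomorphisms above the lowest degree -/
theorem fibre_single {M N : DerivedCategory A} (g : M ⟶ N) (a : ℤ) [M.IsGE a] [N.IsGE (a + 1)]
    (hg : ∀ i, a + 1 ≤ i → IsIso ((homologyFunctor A i).map g)) :
    ∃ (W : A) (f : (singleFunctor A a).obj W ⟶ M) (h : N ⟶ ((singleFunctor A a).obj W)⟦(1 : ℤ)⟧),
      Triangle.mk f g h ∈ distTriang _ ∧ Nonempty (W ≅ (homologyFunctor A a).obj M) := by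
  obtain ⟨F, f, h, hT⟩ := distinguished_cocone_triangle₁ g
  have hGE : F.IsGE a := by
    rw [isGE_iff]
    intro i hi
    exact (HomologySequence.exact₁ _ hT (i - 1) i).isZero_of_both_zeros
      ((N.isZero_of_isGE (a + 1) (i - 1) (by omega)).eq_of_src _ _)
      ((M.isZero_of_isGE a i hi).eq_of_tgt _ _)
  have hLE : F.IsLE a := by
    rw [isLE_iff]
    intro i hi
    have := hg i (by omega)
    have h1 : HomologySequence.δ _ (i - 1) i _ = 0 :=
      (HomologySequence.epi_homologyMap_mor₂_iff (Triangle.mk f g h) hT (i - 1) i).1 (by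
        by_cases hi' : a + 1 ≤ i - 1
        · have := hg (i - 1) hi'
          change Epi ((homologyFunctor A (i - 1)).map g)
          infer_instance
        · exact ⟨fun _ _ _ => (N.isZero_of_isGE (a + 1) (i - 1) (by omega)).eq_of_src _ _⟩)
    exact (HomologySequence.exact₁ _ hT (i - 1) i).isZero_of_both_zeros h1
      ((HomologySequence.mono_homologyMap_mor₂_iff _ hT i).1
        (show Mono ((homologyFunctor A i).map g) by infer_instance))
  obtain ⟨W, ⟨e⟩⟩ := exists_iso_singleFunctor_obj_of_isGE_of_isLE F a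
  refine ⟨W, e.inv ≫ f, h ≫ e.hom⟦(1 : ℤ)⟧', isomorphic_distinguished _ hT _
    (Triangle.isoMk _ _ e.symm (Iso.refl _) (Iso.refl _) (by simp) (by simp)
      (by simp [← Functor.map_comp])), ?_⟩
  have : Epi ((homologyFunctor A a).map f) :=
    (HomologySequence.epi_homologyMap_mor₁_iff _ hT a).2
      ((N.isZero_of_isGE (a + 1) a (by omega)).eq_of_tgt _ _)
  have : Mono ((homologyFunctor A a).map f) :=
    (HomologySequence.mono_homologyMap_mor₁_iff _ hT (a - 1) a).2
      ((N.isZero_of_isGE (a + 1) (a - 1) (by omega)).eq_of_src _ _)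
  have : IsIso ((homologyFunctor A a).map f) := isIso_of_mono_of_epi _
  exact ⟨((singleFunctorCompHomologyFunctorIso A a).app W).symm ≪≫
    (homologyFunctor A a).mapIso e.symm ≪≫ asIso ((homologyFunctor A a).map f)⟩

lemma isIso_homology_truncGEπ (M : DerivedCategory A) (b i : ℤ) (hi : b ≤ i) :
    IsIso ((homologyFunctor A i).map ((TStructure.t.truncGEπ b).app M)) := by
  have hT := TStructure.t.triangleLTGE_distinguished b M
  set T := (TStructure.t.triangleLTGE b).obj M
  have : T.obj₁.IsLE (b - 1) := inferInstance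
  have : Mono ((homologyFunctor A i).map T.mor₂) :=
    (HomologySequence.mono_homologyMap_mor₂_iff _ hT i).2
      ((T.obj₁.isZero_of_isLE (b - 1) i (by omega)).eq_of_src _ _)
  have : Epi ((homologyFunctor A i).map T.mor₂) :=
    (HomologySequence.epi_homologyMap_mor₂_iff _ hT i (i + 1)).2
      ((T.obj₁.isZero_of_isLE (b - 1) (i + 1) (by omega)).eq_of_tgt _ _)
  exact isIso_of_mono_of_epi ((homologyFunctor A i).map T.mor₂)

lemma isIso_homology_truncGE_transition (M : DerivedCategory A) (a b : ℤ) (h : a ≤ b) (i : ℤ)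
    (hi : b ≤ i) :
    IsIso ((homologyFunctor A i).map ((TStructure.t.natTransTruncGEOfLE a b h).app M)) := by
  have := isIso_homology_truncGEπ M a i (by omega)
  have h2 := isIso_homology_truncGEπ M b i hi
  rw [← TStructure.t.π_natTransTruncGEOfLE_app a b h M, Functor.map_comp] at h2
  exact IsIso.of_isIso_comp_left ((homologyFunctor A i).map ((TStructure.t.truncGEπ a).app M)) _

/-- fibres of the transition maps of the tower of truncations -/
theorem fibre_truncGE (M : DerivedCategory A) (a b : ℤ) (hab : a + 1 = b) :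
    ∃ (W : A) (f : (singleFunctor A a).obj W ⟶ (TStructure.t.truncGE a).obj M)
      (h : (TStructure.t.truncGE b).obj M ⟶ ((singleFunctor A a).obj W)⟦(1 : ℤ)⟧),
      Triangle.mk f ((TStructure.t.natTransTruncGEOfLE a b (by omega)).app M) h ∈ distTriang _ ∧
      Nonempty (W ≅ (homologyFunctor A a).obj M) := by
  subst hab
  obtain ⟨W, f, h, hT, ⟨e⟩⟩ := fibre_single
    ((TStructure.t.natTransTruncGEOfLE a (a + 1) (by omega)).app M) a
    (fun i hi => isIso_homology_truncGE_transition M a (a + 1) (by omega) i hi)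
  have := isIso_homology_truncGEπ M a a le_rfl
  exact ⟨W, f, h, hT, ⟨e ≪≫ (asIso ((homologyFunctor A a).map ((TStructure.t.truncGEπ a).app M))).symm⟩⟩

/-- the map of `hmap` as an additive map -/
@[simps]
noncomputable def hmapHom (X : A) (M : DerivedCategory A) :
    (S X ⟶ M) →+ (X ⟶ (homologyFunctor A 0).obj M) where
  toFun := hmap
  map_zero' := hmap_zero X M
  map_add' := hmap_add

lemma hmap_injective_of_isGE (X : A) (M : DerivedCategory A) [M.IsGE 0] :
    Function.Injective (hmap (X := X) (M := M)) := by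
  refine (injective_iff_map_eq_zero (hmapHom X M)).2 fun y hy => ?_
  obtain ⟨X', π, hπ, h⟩ := exists_refine_zero y hy
  have hse : (ShortComplex.mk (kernel.ι π) π (kernel.condition π)).ShortExact :=
    { exact := ShortComplex.exact_of_f_is_kernel _ (kernelIsKernel π) }
  obtain ⟨w, hw⟩ := Triangle.yoneda_exact₃ _ hse.singleTriangle_distinguished y h
  have : TStructure.t.IsLE ((S (kernel π))⟦(1 : ℤ)⟧) (-1) :=
    TStructure.t.isLE_shift _ 0 1 (-1) (by omega)
  rw [hw, TStructure.t.zero_of_isLE_of_isGE w (-1) 0 (by omega) this inferInstance]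
  exact comp_zero

lemma hmap_surjective_of_isGE (X : A) (M : DerivedCategory A) [M.IsGE 0] :
    Function.Surjective (hmap (X := X) (M := M)) := fun x => by
  obtain ⟨X', π, hπ, y', hy'⟩ := exists_refine_lift x
  have hse : (ShortComplex.mk (kernel.ι π) π (kernel.condition π)).ShortExact :=
    { exact := ShortComplex.exact_of_f_is_kernel _ (kernelIsKernel π) }
  have h : (singleFunctor A 0).map (kernel.ι π) ≫ y' = 0 :=
    hmap_injective_of_isGE _ M (by rw [hmap_precomp, hy', kernel.condition_assoc, zero_comp, hmap_zero])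
  obtain ⟨y, hy⟩ := Triangle.yoneda_exact₂ _ hse.singleTriangle_distinguished y' h
  refine ⟨y, ?_⟩
  rw [← cancel_epi π, ← hy', hy]
  exact (hmap_precomp π y).symm

/-- Morphisms from `X[0]` to a bounded below object are maps `X ⟶ H⁰`, when the negative
homology objects are acyclic for `X`. -/
theorem hmap_bijective (X : A) (M : DerivedCategory A) (a : ℤ) [M.IsGE a]
    (hv : ∀ j : ℤ, a ≤ j → j < 0 → ∀ e : ℤ, (e = 0 ∨ e = 1) →
      Subsingleton (S X ⟶ ((singleFunctor A j).obj ((homologyFunctor A j).obj M))⟦e⟧)) :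
    Function.Bijective (hmap (X := X) (M := M)) := by
  obtain ⟨n, hn⟩ : ∃ n : ℕ, 0 ≤ a + n := ⟨(-a).toNat, by omega⟩
  induction n generalizing a M with
  | zero =>
    have : M.IsGE 0 := TStructure.t.isGE_of_ge M 0 a (by omega)
    exact ⟨hmap_injective_of_isGE X M, hmap_surjective_of_isGE X M⟩
  | succ n ih =>
    by_cases ha : 0 ≤ a
    · exact ih M a hv (by omega)
    let g : M ⟶ (TStructure.t.truncGE (a + 1)).obj M := (TStructure.t.truncGEπ (a + 1)).app M
    have hg := fun i hi => isIso_homology_truncGEπ M (a + 1) i hi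
    obtain ⟨W, f, h, hT, ⟨e⟩⟩ := fibre_single g a hg
    have key : ∀ s : ℤ, (s = 0 ∨ s = 1) →
        Subsingleton (S X ⟶ ((singleFunctor A a).obj W)⟦s⟧) := fun s hs =>
      letI := hv a le_rfl (by omega) s hs
      ((shiftFunctor _ s).mapIso ((singleFunctor A a).mapIso e)).homToEquiv.subsingleton
    have h0 : Subsingleton (S X ⟶ (singleFunctor A a).obj W) :=
      @Equiv.subsingleton _ _ ((shiftFunctorZero (DerivedCategory A) ℤ).app _).symm.homToEquiv
        (key 0 (Or.inl rfl))
    have hN := ih ((TStructure.t.truncGE (a + 1)).obj M) (a + 1) (fun j hj hj' s hs => by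
      letI := hv j (by omega) hj' s hs
      haveI := hg j hj
      exact ((shiftFunctor _ s).mapIso ((singleFunctor A j).mapIso
        (asIso ((homologyFunctor A j).map g)).symm)).homToEquiv.subsingleton) (by omega)
    haveI := hg 0 (by omega)
    have hcomp : (fun φ => φ ≫ (homologyFunctor A 0).map g) ∘ hmap (X := X) (M := M) =
        hmap ∘ fun y => y ≫ g := funext fun y => (hmap_comp y g).symm
    have hb : Function.Bijective ((fun φ => φ ≫ (homologyFunctor A 0).map g) ∘ hmap (X := X) (M := M)) :=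
      hcomp ▸ hN.comp ⟨comp_injective_of_subsingleton _ hT _ h0,
        comp_surjective_of_subsingleton _ hT _ (key 1 (Or.inr rfl))⟩
    have hpost : Function.Bijective
        (fun φ : X ⟶ (homologyFunctor A 0).obj M => φ ≫ (homologyFunctor A 0).map g) :=
      (asIso ((homologyFunctor A 0).map g)).homToEquiv.bijective
    exact ⟨hb.1.of_comp, fun x => by
      obtain ⟨y, hy⟩ := hb.2 (x ≫ (homologyFunctor A 0).map g)
      exact ⟨y, hpost.1 hy⟩⟩

/-- Variant of `hmap_bijective` using Ext groups. -/
theorem hmap_bijective_of_ext [HasExt.{w'} A] (X : A) (M : DerivedCategory A) (a : ℤ) [M.IsGE a]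
    (hv : ∀ (j : ℤ) (k : ℕ), 0 < k → Subsingleton (Abelian.Ext X ((homologyFunctor A j).obj M) k)) :
    Function.Bijective (hmap (X := X) (M := M)) := by
  refine hmap_bijective X M a fun j _ hj e he => ?_
  exact subsingleton_hom_single X _ j e (e - j).toNat (by omega) (hv j _ (by omega))

end Groth.Agent.CohDerLib.HComp
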