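import Groth.Agent.CohDerLib.HComp.Rlim

/-!
# Derived limits of acyclic sheaves
-/

set_option backward.isDefEq.respectTransparency.types false
set_option backward.isDefEq.respectTransparency false

universe u

open CategoryTheory CategoryTheory.Limits DerivedCategory Pretriangulated Opposite

namespace Groth.Agent.CohDerLib.HComp

variable {C : Type u} [SmallCategory C] {J : GrothendieckTopology C}
  [HasDerivedCategory.{u} (Sheaf J AddCommGrpCat.{u})]
  (F : ℕ → Sheaf J AddCommGrpCat.{u}) (t : ∀ n, F (n + 1) ⟶ F n)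

/-- `H^0` of the single functor -/
noncomputable def h0Single (W : Sheaf J AddCommGrpCat.{u}) :
    CohCx.HD ((singleFunctor (Sheaf J AddCommGrpCat.{u}) 0).obj W) 0 ≅ W :=
  (singleFunctorCompHomologyFunctorIso (Sheaf J AddCommGrpCat.{u}) 0).app W

lemma h0Single_naturality {W W' : Sheaf J AddCommGrpCat.{u}} (f : W ⟶ W') :
    (homologyFunctor (Sheaf J AddCommGrpCat.{u}) 0).map ((singleFunctor _ 0).map f) ≫ (h0Single W').hom =
      (h0Single W).hom ≫ f :=
  (singleFunctorCompHomologyFunctorIso (Sheaf J AddCommGrpCat.{u}) 0).hom.naturality f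

/-- The derived limit of an inverse system of acyclic sheaves with `R¹lim = 0` on sections. -/
theorem isRlim_single [HasProduct fun n => (singleFunctor (Sheaf J AddCommGrpCat.{u}) 0).obj (F n)]
    (B : Set C)
    (hB : ∀ U : C, ∃ (ι : Type u) (Y : ι → C) (f : ∀ i, Y i ⟶ U), Sieve.ofArrows Y f ∈ J U ∧ ∀ i, Y i ∈ B)
    (h1 : ∀ U ∈ B, ∀ (p n : ℕ), Subsingleton (CohSite.HU (F n) (p + 1) U))
    (h2 : ∀ U ∈ B, CohCx.LimOneIsZero (fun n => (F n).obj.obj (op U)) (fun n => ((t n).hom.app (op U)).hom)) :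
    DCoh.IsRlim (fun n => (singleFunctor _ 0).obj (F n))
      (fun n => (singleFunctor _ 0).map (t n))
      ((singleFunctor _ 0).obj (limit (CohCx.opSequence F t))) ∧
    ∀ U ∈ B, ∀ p : ℕ, Subsingleton (CohSite.HU (limit (CohCx.opSequence F t)) (p + 1) U) := by
  let K := fun n => (singleFunctor (Sheaf J AddCommGrpCat.{u}) 0).obj (F n)
  let τ : ∀ n, K (n + 1) ⟶ K n := fun n => (singleFunctor (Sheaf J AddCommGrpCat.{u}) 0).map (t n)
  let d : ∏ᶜ K ⟶ ∏ᶜ K := Pi.lift fun n => Pi.π K n - Pi.π K (n + 1) ≫ τ n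
  obtain ⟨L, l, c, hc⟩ := distinguished_cocone_triangle₁ d
  obtain ⟨a, ha⟩ := isRlimVia_of_isRlim (K := K) (t := τ) ⟨l, c, hc⟩
  have hacy : ∀ U ∈ B, ∀ n, AcyclicAt (K n) U := fun U hU n p q => by
    by_cases hq : q = 0
    · subst hq
      exact subsingleton_ext_of_iso (h0Single (F n)).symm _ (h1 U hU p n)
    · exact subsingleton_ext_of_isZero (isZero_homology_single (F n) 0 q hq) _
  have h2' : ∀ (q : ℤ), ∀ U ∈ B, CohCx.LimOneIsZero (fun n => (CohCx.HD (K n) q).obj.obj (op U))
      (fun n => (((homologyFunctor (Sheaf J AddCommGrpCat.{u}) q).map (τ n)).hom.app (op U)).hom) := by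
    intro q U hU
    by_cases hq : q = 0
    · subst hq
      intro b
      let ev := sheafToPresheaf J AddCommGrpCat.{u} ⋙ (evaluation _ _).obj (op U)
      let e := fun n => (ev.mapIso (h0Single (F n))).addCommGroupIsoToAddEquiv
      obtain ⟨x, hx⟩ := h2 U hU (fun n => e n (b n))
      refine ⟨fun n => (e n).symm (x n), funext fun n => (e n).injective ?_⟩
      rw [map_sub, AddEquiv.apply_symm_apply]
      refine Eq.trans (congrArg (x n - ·) ?_) (congrFun hx n)
      refine (congrArg (fun φ : CohCx.HD (K (n + 1)) 0 ⟶ F n => φ.hom.app (op U) ((e (n + 1)).symm (x (n + 1))))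
        (h0Single_naturality (t n))).trans ?_
      exact congrArg ((t n).hom.app (op U)) ((e (n + 1)).apply_symm_apply (x (n + 1)))
    · refine limOneIsZero_of_eventually_surjective 0 _ _ fun n _ => ?_
      have hz := (isZero_homology_single (F n) 0 q hq).eq_of_src (𝟙 _) 0
      intro y
      refine ⟨0, ?_⟩
      have := congrArg (fun φ : CohCx.HD (K n) q ⟶ CohCx.HD (K n) q => φ.hom.app (op U) y) hz
      exact (map_zero _).trans this.symm
  have hiso := fun q => isIso_HD_rlim ha B hB hacy q (h2' (q - 1))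
  have hzero : ∀ q, q ≠ 0 → IsZero (CohCx.HD L q) := fun q hq => by
    obtain ⟨e⟩ := hiso q
    refine IsZero.of_iso ?_ e
    rw [IsZero.iff_id_eq_zero]
    exact limit.hom_ext fun n => (isZero_homology_single (F n.unop) 0 q hq).eq_of_tgt _ _
  have : L.IsGE 0 := (isGE_iff _ _).2 fun i hi => hzero i (by omega)
  have : L.IsLE 0 := (isLE_iff _ _).2 fun i hi => hzero i (by omega)
  obtain ⟨W, ⟨eW⟩⟩ := exists_iso_singleFunctor_obj_of_isGE_of_isLE L 0
  obtain ⟨e0⟩ := hiso 0
  have eF : CohCx.opSequence (fun n => CohCx.HD (K n) 0)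
      (fun n => (homologyFunctor (Sheaf J AddCommGrpCat.{u}) 0).map (τ n)) ≅ CohCx.opSequence F t := by
    let H := CohCx.opSequence (fun n => CohCx.HD (K n) 0)
      (fun n => (homologyFunctor (Sheaf J AddCommGrpCat.{u}) 0).map (τ n))
    let α : H ⟶ CohCx.opSequence F t := NatTrans.ofOpSequence (fun n => (h0Single (F n)).hom)
      (fun n => by simpa [H, CohCx.opSequence, τ, K] using h0Single_naturality (t n))
    have : ∀ n, IsIso (α.app n) := fun n => inferInstanceAs (IsIso (h0Single (F n.unop)).hom)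
    have := NatIso.isIso_of_isIso_app α
    exact asIso α
  let eL : (singleFunctor (Sheaf J AddCommGrpCat.{u}) 0).obj (limit (CohCx.opSequence F t)) ≅ L :=
    (singleFunctor _ 0).mapIso ((h0Single W).symm ≪≫ (homologyFunctor _ 0).mapIso eW.symm ≪≫ e0 ≪≫
      lim.mapIso eF).symm ≪≫ eW.symm
  refine ⟨⟨eL.hom ≫ l, c ≫ eL.inv⟦(1 : ℤ)⟧', isomorphic_distinguished _ hc _
    (Triangle.isoMk _ _ eL (Iso.refl _) (Iso.refl _) (by simp) (by simp [d, K, τ])
      (by simp [← Functor.map_comp]))⟩, fun U hU p => ?_⟩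
  have hL0 : Subsingleton (CohCx.HDU L ((p + 1 : ℕ) : ℤ) U) := by
    have hb : ∀ n q, Function.Bijective (hsec (K n) q U) := fun n q =>
      hsec_bijective (K n) B hB (fun V hV => hacy V hV n) hU q
    have hl := limOne_of_sections (K := K) (t := τ) U (((p + 1 : ℕ) : ℤ) - 1) (fun n => hb n _) (h2' _ U hU)
    refine subsingleton_of_forall_eq 0 fun y => hDU_eq_zero ha U _ (fun n => hb n _) hl y fun n => ?_
    have hz := (isZero_homology_single (F n) 0 ((p + 1 : ℕ) : ℤ) (by omega)).eq_of_src (𝟙 _) 0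
    exact congrArg (fun φ : CohCx.HD (K n) ((p + 1 : ℕ) : ℤ) ⟶ CohCx.HD (K n) ((p + 1 : ℕ) : ℤ) =>
      φ.hom.app (op U) (((homologyFunctor _ _).map (a n)).hom.app (op U) (hsec L _ U y))) hz
  exact (Abelian.Ext.homEquiv (X := CohCx.freeSheaf J U)
    (Y := limit (CohCx.opSequence F t)) (n := p + 1)).trans
      ((shiftFunctor _ ((p + 1 : ℕ) : ℤ)).mapIso eL).homToEquiv |>.subsingleton

end Groth.Agent.CohDerLib.HComp
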