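import Groth.Agent.CohDerLib.HComp.Site

/-!
# The tower of truncations and derived limits
-/

set_option backward.isDefEq.respectTransparency.types false
set_option backward.isDefEq.respectTransparency false

universe u

open CategoryTheory CategoryTheory.Limits DerivedCategory Pretriangulated Opposite

namespace Groth.Agent.CohDerLib.HComp

variable {C : Type u} [SmallCategory C] {J : GrothendieckTopology C}
  [HasDerivedCategory.{u} (Sheaf J AddCommGrpCat.{u})]

/-- transition maps of the truncation tower on `H^m(U, -)` -/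
theorem truncTowerMap_bij (E : DerivedCategory (Sheaf J AddCommGrpCat.{u})) (U : C) (m : ℤ) (n k : ℕ)
    (hk : m + n + 1 = (k : ℤ)) (h : Subsingleton (CohSite.HU (CohCx.HD E (m - k)) k U)) :
    Function.Injective (Preadditive.rightComp _ ((shiftFunctor _ m).map (CohCx.truncTowerMap E n)) :
        CohCx.HDU (CohCx.truncTower E (n + 1)) m U → CohCx.HDU (CohCx.truncTower E n) m U) ∧
    Function.Surjective
      (Preadditive.rightComp _ ((shiftFunctor _ (m - 1)).map (CohCx.truncTowerMap E n)) :
        CohCx.HDU (CohCx.truncTower E (n + 1)) (m - 1) U → CohCx.HDU (CohCx.truncTower E n) (m - 1) U) := by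
  obtain ⟨W, f, c, hT, ⟨e⟩⟩ := fibre_truncGE E (-((n + 1 : ℕ) : ℤ)) (-(n : ℤ)) (by omega)
  have he : CohCx.HD E (m - k) ≅ W :=
    eqToIso (congrArg (CohCx.HD E) (show m - k = -((n + 1 : ℕ) : ℤ) by omega)) ≪≫ e.symm
  have hW : Subsingleton (Abelian.Ext (CohCx.freeSheaf J U) W k) := by
    have : Subsingleton (Abelian.Ext (CohCx.freeSheaf J U) (CohCx.HD E (m - k)) k) := h
    refine ⟨fun x y => ?_⟩
    have := congrArg (fun z => z.comp (Abelian.Ext.mk₀ he.hom) (add_zero k))
      (Subsingleton.elim (x.comp (Abelian.Ext.mk₀ he.inv) (add_zero k))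
        (y.comp (Abelian.Ext.mk₀ he.inv) (add_zero k)))
    simpa using this
  have hs := subsingleton_hom_single (CohCx.freeSheaf J U) W (-((n + 1 : ℕ) : ℤ)) m k (by omega) hW
  exact ⟨shift_comp_injective _ hT _ m hs, shift_comp_surjective _ hT _ (m - 1) m (by omega) hs⟩

lemma toTruncTower_comp (E : DerivedCategory (Sheaf J AddCommGrpCat.{u})) (n : ℕ) :
    CohCx.toTruncTower E (n + 1) ≫ CohCx.truncTowerMap E n = CohCx.toTruncTower E n :=
  TStructure.t.π_natTransTruncGEOfLE_app _ _ _ E

lemma isIso_transition_truncTower (E : DerivedCategory (Sheaf J AddCommGrpCat.{u})) (m : ℤ) (n k : ℕ)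
    (hn : -(n : ℤ) ≤ m) :
    IsIso ((homologyFunctor (Sheaf J AddCommGrpCat.{u}) m).map
      (CohCx.transition (CohCx.truncTower E) (CohCx.truncTowerMap E) n k)) := by
  have h1 := isIso_homology_truncGEπ E (-((n + k : ℕ) : ℤ)) m (by omega)
  have h2 := isIso_homology_truncGEπ E (-(n : ℤ)) m hn
  change IsIso ((homologyFunctor (Sheaf J AddCommGrpCat.{u}) m).map (CohCx.toTruncTower E (n + k))) at h1
  change IsIso ((homologyFunctor (Sheaf J AddCommGrpCat.{u}) m).map (CohCx.toTruncTower E n)) at h2
  rw [← comp_transition (toTruncTower_comp E) n k, Functor.map_comp] at h2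
  exact IsIso.of_isIso_comp_left
    ((homologyFunctor (Sheaf J AddCommGrpCat.{u}) m).map (CohCx.toTruncTower E (n + k))) _

/-- `E` is the derived limit of its truncations, if locally the cohomology of its cohomology
sheaves vanishes in high degrees. -/
theorem isRlimVia_truncTower (E : DerivedCategory (Sheaf J AddCommGrpCat.{u}))
    [HasProduct (CohCx.truncTower E)]
    (hloc : ∀ (U : C) (m : ℤ) (T : ℕ → Sieve U), (∀ j, T j ∈ J U) →
      ∃ (ι : Type u) (Y : ι → C) (f : ∀ i, Y i ⟶ U), Sieve.ofArrows Y f ∈ J U ∧ ∀ i, ∃ j : ℕ,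
        T j (f i) ∧ ∀ k : ℕ, m + j < (k : ℤ) → Subsingleton (CohSite.HU (CohCx.HD E (m - k)) k (Y i))) :
    CohCx.IsRlimVia (CohCx.truncTower E) (CohCx.truncTowerMap E) E (CohCx.toTruncTower E) := by
  let K := CohCx.truncTower E
  let t := CohCx.truncTowerMap E
  let d : ∏ᶜ K ⟶ ∏ᶜ K := Pi.lift fun n => Pi.π K n - Pi.π K (n + 1) ≫ t n
  obtain ⟨L, l, c, hc⟩ := distinguished_cocone_triangle₁ d
  let a' : ∀ n, L ⟶ K n := fun n => l ≫ Pi.π K n
  have hl : Pi.lift a' = l := Pi.hom_ext _ _ fun n => Pi.lift_π _ _
  have hL : CohCx.IsRlimVia K t L a' := ⟨c, by rw [hl]; exact hc⟩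
  have h0 : Pi.lift (CohCx.toTruncTower E) ≫ d = 0 := by
    refine Pi.hom_ext _ _ fun n => ?_
    rw [Category.assoc, Pi.lift_π, zero_comp, Preadditive.comp_sub, Pi.lift_π, Pi.lift_π_assoc,
      toTruncTower_comp, sub_self]
  obtain ⟨φ, hφ⟩ := Triangle.coyoneda_exact₂ _ hc _ h0
  change Pi.lift (CohCx.toTruncTower E) = φ ≫ l at hφ
  have hφn : ∀ n, φ ≫ a' n = CohCx.toTruncTower E n := fun n => by
    rw [← Category.assoc, ← hφ, Pi.lift_π]
  have : IsIso φ := by
    rw [DerivedCategory.isIso_iff]
    intro m
    let N := (-m).toNat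
    have hiso : IsIso ((homologyFunctor (Sheaf J AddCommGrpCat.{u}) m).map (CohCx.toTruncTower E N)) :=
      isIso_homology_truncGEπ E _ m (by omega)
    rw [← hφn N, Functor.map_comp] at hiso
    have hmono : Mono ((homologyFunctor (Sheaf J AddCommGrpCat.{u}) m).map (a' N)) := by
      refine (sheafToPresheaf J AddCommGrpCat.{u}).mono_of_mono_map ?_
      have : ∀ U, Mono (((homologyFunctor (Sheaf J AddCommGrpCat.{u}) m).map (a' N)).hom.app U) := by
        rintro ⟨U⟩
        rw [AddCommGrpCat.mono_iff_injective, injective_iff_map_eq_zero]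
        intro s hs
        have hT : ∀ j : ℕ, ∃ T ∈ J U, ∀ ⦃Y : C⦄ (g : Y ⟶ U), T g →
            (∀ k : ℕ, m + j < (k : ℤ) → Subsingleton (CohSite.HU (CohCx.HD E (m - k)) k Y)) →
              (CohCx.HD L m).obj.map g.op s = 0 := by
          intro j
          have hs' : ((homologyFunctor _ m).map (a' (N + j))).hom.app (op U) s = 0 := by
            have := isIso_transition_truncTower E m N j (by omega)
            rw [← comp_transition (rlimVia_comp hL) N j] at hs
            have hi : Mono (((homologyFunctor (Sheaf J AddCommGrpCat.{u}) m).map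
                (CohCx.transition K t N j)).hom.app (op U)) := by
              change Mono ((sheafToPresheaf J _ ⋙ (evaluation _ _).obj (op U)).map _)
              infer_instance
            rw [AddCommGrpCat.mono_iff_injective] at hi
            refine hi (Eq.trans ?_ (map_zero _).symm)
            rw [Functor.map_comp] at hs
            exact hs
          obtain ⟨T, hT, h⟩ := section_eq_zero hL m (N + j) s hs'
          refine ⟨T, hT, fun Y g hg hk => h g hg ?_ ?_⟩
          · refine limOneIsZero_of_eventually_surjective (N + j) _ _ fun n hn => ?_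
            exact (truncTowerMap_bij E Y m n (m + n + 1).toNat (by omega) (hk _ (by omega))).2
          · intro i
            induction i with
            | zero =>
              intro x y hxy
              change x ≫ (𝟙 (K (N + j)))⟦m⟧' = y ≫ (𝟙 (K (N + j)))⟦m⟧' at hxy
              have hid := (shiftFunctor (DerivedCategory (Sheaf J AddCommGrpCat.{u})) m).map_id (K (N + j))
              exact (Category.comp_id x).symm.trans ((congrArg (x ≫ ·) hid.symm).trans
                (hxy.trans ((congrArg (y ≫ ·) hid).trans (Category.comp_id y))))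
            | succ i ih =>
              intro x y hxy
              refine (truncTowerMap_bij E Y m (N + j + i) (m + (N + j + i : ℕ) + 1).toNat (by omega)
                (hk _ (by omega))).1 (ih ?_)
              change x ≫ (t (N + j + i) ≫ CohCx.transition K t (N + j) i)⟦m⟧' =
                y ≫ (t (N + j + i) ≫ CohCx.transition K t (N + j) i)⟦m⟧' at hxy
              rw [Functor.map_comp, ← Category.assoc, ← Category.assoc] at hxy
              exact hxy
        choose T hTm hT0 using hT
        obtain ⟨ι, Y, f, hR, hg⟩ := hloc U m T hTm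
        refine section_ext _ _ hR s 0 fun Z g hg' => ?_
        obtain ⟨i, h, rfl⟩ := (Sieve.mem_ofArrows_iff Y f g).1 hg'
        obtain ⟨j, hj, hk⟩ := hg i
        rw [op_comp, Functor.map_comp, ConcreteCategory.comp_apply, hT0 j (f i) hj hk, map_zero,
          map_zero]
      exact @NatTrans.mono_of_mono_app _ _ _ _ _ _ ((sheafToPresheaf J _).map _) this
    have : Epi ((homologyFunctor (Sheaf J AddCommGrpCat.{u}) m).map (a' N)) :=
      epi_of_epi ((homologyFunctor (Sheaf J AddCommGrpCat.{u}) m).map φ) _
    have := isIso_of_mono_of_epi ((homologyFunctor (Sheaf J AddCommGrpCat.{u}) m).map (a' N))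
    exact IsIso.of_isIso_comp_right _ ((homologyFunctor (Sheaf J AddCommGrpCat.{u}) m).map (a' N))
  refine ⟨c ≫ (inv φ)⟦(1 : ℤ)⟧', isomorphic_distinguished _ hc _
    (Triangle.isoMk _ _ (asIso φ) (Iso.refl _) (Iso.refl _) ?_ ?_ ?_)⟩
  · simp [← hφ]
  · simp [d, K, t]
  · simp

end Groth.Agent.CohDerLib.HComp
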